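import Groth.Prelude.Def_Hens2
import Groth.Agent.Lib.Hens.StrictBC
import Mathlib.AlgebraicGeometry.Stalk

/-!
# Morphisms out of strict localisations of schemes
-/

set_option autoImplicit false
set_option linter.style.haveILetI false

universe u

open CategoryTheory AlgebraicGeometry IsLocalRing

namespace Groth.Agent.LocAcyc24

variable {X : Scheme.{u}} {x : X}

theorem ringHom_ext_specOf {B : Type u} [CommRing B] {f g : X.presheaf.stalk x →+* B}
    (h : Spec.map (CommRingCat.ofHom f) ≫ X.fromSpecStalk x =
      Spec.map (CommRingCat.ofHom g) ≫ X.fromSpecStalk x) : f = g :=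
  congrArg CommRingCat.Hom.hom (Spec.map_injective ((cancel_mono (X.fromSpecStalk x)).1 h))

theorem specOf_map {R B : Type u} [CommRing R] [CommRing B] [Algebra (X.presheaf.stalk x) R] (φ : R →+* B) :
    Spec.map (CommRingCat.ofHom φ) ≫ Hens2.specOf X x R =
      Spec.map (CommRingCat.ofHom (φ.comp (algebraMap (X.presheaf.stalk x) R))) ≫ X.fromSpecStalk x := by
  rw [Hens2.specOf, ← Spec.map_comp_assoc, ← CommRingCat.ofHom_comp]

theorem specOf_closedPoint {R : Type u} [CommRing R] [IsLocalRing R] [Algebra (X.presheaf.stalk x) R]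
    [IsLocalHom (algebraMap (X.presheaf.stalk x) R)] : Hens2.specOf X x R (closedPoint R) = x := by
  rw [Hens2.specOf, Scheme.Hom.comp_apply]
  have h : Spec.map (CommRingCat.ofHom (algebraMap (X.presheaf.stalk x) R)) (closedPoint R) =
      closedPoint (X.presheaf.stalk x) := IsLocalRing.comap_closedPoint (algebraMap (X.presheaf.stalk x) R)
  rw [h]
  exact Scheme.fromSpecStalk_closedPoint

theorem map_closedPoint {A B : Type u} [CommRing A] [CommRing B] [IsLocalRing A] [IsLocalRing B] (g : A →+* B)
    [IsLocalHom g] : Spec.map (CommRingCat.ofHom g) (closedPoint B) = closedPoint A :=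
  IsLocalRing.comap_closedPoint g

/-- A morphism from the spectrum of a local ring factors through the local ring at the image of the
closed point. -/
theorem exists_localHom {T : Type u} [CommRing T] [IsLocalRing T] (a : Spec (CommRingCat.of T) ⟶ X)
    (ha : a (closedPoint T) = x) :
    ∃ f : X.presheaf.stalk x →+* T, IsLocalHom f ∧
      Spec.map (CommRingCat.ofHom f) ≫ X.fromSpecStalk x = a := by
  subst ha
  refine ⟨(Scheme.stalkClosedPointTo a).hom, inferInstance, ?_⟩
  rw [CommRingCat.ofHom_hom]
  exact Scheme.Spec_stalkClosedPointTo_fromSpecStalk a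

variable {R : Type u} [CommRing R] [IsLocalRing R] [Algebra (X.presheaf.stalk x) R]
  [IsLocalHom (algebraMap (X.presheaf.stalk x) R)] [Hensel.IsStrictHenselization (X.presheaf.stalk x) R]
  {T : Type u} [CommRing T] [HenselianLocalRing T]

/-- Extension with prescribed residue map. -/
theorem exists_lift_residue (f : X.presheaf.stalk x →+* T) [IsLocalHom f] (τ : ResidueField R →+* ResidueField T)
    (hτ : τ.comp (ResidueField.map (algebraMap (X.presheaf.stalk x) R)) = ResidueField.map f) :
    ∃ g : R →+* T, IsLocalHom g ∧ g.comp (algebraMap (X.presheaf.stalk x) R) = f ∧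
      Spec.map (CommRingCat.ofHom g) ≫ Hens2.specOf X x R =
        Spec.map (CommRingCat.ofHom f) ≫ X.fromSpecStalk x ∧
      ∀ r : R, residue T (g r) = τ (residue R r) := by
  obtain ⟨g, ⟨hg, hgτ⟩, -⟩ := Hensel.IsStrictHenselization.universal (R := X.presheaf.stalk x) (S := R) T f τ hτ
  refine ⟨g, ⟨fun r hr => ?_⟩, hg, by rw [specOf_map, hg], hgτ⟩
  have h := hgτ r
  rw [← residue_ne_zero_iff_isUnit] at hr ⊢
  intro h0
  exact hr (by rw [h, h0, map_zero])

/-- Morphisms out of a strict localisation exist into henselian rings with separably closed residue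
field. -/
theorem exists_lift [IsSepClosed (ResidueField T)] (a : Spec (CommRingCat.of T) ⟶ X)
    (ha : a (closedPoint T) = x) :
    ∃ g : R →+* T, IsLocalHom g ∧ Spec.map (CommRingCat.ofHom g) ≫ Hens2.specOf X x R = a := by
  obtain ⟨f, hf, hfa⟩ := exists_localHom a ha
  obtain ⟨τ, hτ⟩ := Hens.exists_residue_lift (X.presheaf.stalk x) R f
  obtain ⟨g, hg, -, hga, -⟩ := exists_lift_residue f τ hτ
  exact ⟨g, hg, hga.trans hfa⟩

/-- Morphisms out of a strict localisation are determined by the composite and the residue map. -/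
theorem hom_ext (g g' : R →+* T) [IsLocalHom g]
    (h : Spec.map (CommRingCat.ofHom g') ≫ Hens2.specOf X x R =
      Spec.map (CommRingCat.ofHom g) ≫ Hens2.specOf X x R)
    (hres : ∀ r, residue T (g' r) = residue T (g r)) : g' = g := by
  rw [specOf_map, specOf_map] at h
  haveI : IsLocalHom (g.comp (algebraMap (X.presheaf.stalk x) R)) := RingHom.isLocalHom_comp _ _
  exact Hens.strictHenselization_hom_ext (X.presheaf.stalk x) R g g' (ringHom_ext_specOf h) hres

theorem closedPoint_image {S : Scheme.{u}} {s : S} {RS : Type u} [CommRing RS] [IsLocalRing RS]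
    [Algebra (S.presheaf.stalk s) RS] [IsLocalHom (algebraMap (S.presheaf.stalk s) RS)]
    (g : RS →+* R) [IsLocalHom g] (p : X ⟶ S)
    (h : Spec.map (CommRingCat.ofHom g) ≫ Hens2.specOf S s RS = Hens2.specOf X x R ≫ p) : p x = s := by
  have h' : Hens2.specOf S s RS (Spec.map (CommRingCat.ofHom g) (closedPoint R)) =
      p (Hens2.specOf X x R (closedPoint R)) :=
    congrArg (fun m : Spec (CommRingCat.of R) ⟶ S => m (closedPoint R)) h
  rw [map_closedPoint g] at h'
  exact ((specOf_closedPoint (X := S) (x := s) (R := RS)).symm.trans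
    (h'.trans (congrArg p.base (specOf_closedPoint (X := X) (x := x) (R := R))))).symm

omit [Hensel.IsStrictHenselization (X.presheaf.stalk x) R] in
/-- Compatibility with the maps of local rings. -/
theorem specOf_compat {S : Scheme.{u}} (p : X ⟶ S) {RS : Type u} [CommRing RS] [IsLocalRing RS]
    [Algebra (S.presheaf.stalk (p x)) RS] (g : RS →+* R) :
    g.comp (algebraMap (S.presheaf.stalk (p x)) RS) =
        (algebraMap (X.presheaf.stalk x) R).comp (p.stalkMap x).hom ↔
      Spec.map (CommRingCat.ofHom g) ≫ Hens2.specOf S (p x) RS = Hens2.specOf X x R ≫ p := by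
  have e : Hens2.specOf X x R ≫ p = Spec.map (CommRingCat.ofHom
      ((algebraMap (X.presheaf.stalk x) R).comp (p.stalkMap x).hom)) ≫ S.fromSpecStalk (p x) := by
    rw [Hens2.specOf, Category.assoc, ← Scheme.SpecMap_stalkMap_fromSpecStalk, ← Spec.map_comp_assoc,
      CommRingCat.ofHom_comp, CommRingCat.ofHom_hom]
  rw [e, specOf_map]
  exact ⟨fun h => by rw [h], ringHom_ext_specOf⟩

end Groth.Agent.LocAcyc24
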