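import Groth.Agent.Lib.LocAcyc24.TorsionConst
import Groth.Agent.Lib.LocAcyc24.SHPoint
import Groth.Agent.Lib.LocConstGen24.Basic
import Groth.Agent.Lib.EtDesc24.PullH
import Groth.Prelude.Def_EtRestW

/-!
# Local acyclicity relative to a locally constant torsion sheaf
-/

set_option autoImplicit false
set_option linter.style.haveILetI false
set_option backward.isDefEq.respectTransparency.types false

universe u

open CategoryTheory CategoryTheory.Limits AlgebraicGeometry Opposite CategoryTheory.Abelian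
open Groth.Agent.EtStalk Groth.Agent.EtSite

namespace Groth.Agent.LocAcyc24

variable {R : Type u} [CommRing R] [HenselianLocalRing R] [IsSepClosed (IsLocalRing.ResidueField R)]

theorem exists_section_of_covers {ι : Type u} (W : ι → (Spec (CommRingCat.of R)).Etale)
    (h : EtCoh.Covers W) : ∃ (i : ι) (σ : EtCoh.top (Spec (CommRingCat.of R)) ⟶ W i), True := by
  obtain ⟨i, y, hy⟩ := h (closedPt R default)
  obtain ⟨φ, -⟩ := Scheme.pointSmallEtaleFiberObjToPreimage_surjective (closedPt R)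
    (s₀ := closedPt R default) rfl (W i) ⟨y, hy⟩
  obtain ⟨σ, -⟩ := exists_section R φ
  exact ⟨i, σ, trivial⟩

/-- A locally constant sheaf pulls back to a constant sheaf on a strictly henselian scheme. -/
theorem exists_pull_iso_const {X : Scheme.{u}} (f : Spec (CommRingCat.of R) ⟶ X) (F : EtCoh.Ab X)
    (hF : EtRest.IsLocallyConstant F) :
    ∃ M : AddCommGrpCat.{u + 1}, Nonempty ((EtCoh.pull f).obj F ≅ (cs (Spec (CommRingCat.of R))).obj M) := by
  obtain ⟨ι, U, hU, hM⟩ := hF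
  obtain ⟨i, σ, -⟩ := exists_section_of_covers _ (LocConstGen24.covers_bc f U hU)
  obtain ⟨M, _, hiso⟩ := hM i
  refine ⟨AddCommGrpCat.of M, ?_⟩
  have h1 := LocConstGen24.over_pull AddCommGrpCat.{u + 1} f (U i) F (AddCommGrpCat.of M) hiso
  rw [LocConstGen24.over_iff] at h1
  obtain ⟨e⟩ := h1
  let W := (EtCoh.bc f).obj (U i)
  let s : Spec (CommRingCat.of R) ⟶ W.left := σ.left
  have hs : s ≫ W.hom = 𝟙 (Spec (CommRingCat.of R)) := MorphismProperty.Over.w σ
  let G := (EtCoh.pull f).obj F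
  let e1 : (LocConstGen24.pullA AddCommGrpCat.{u + 1} (W.hom : W.left ⟶ Spec (CommRingCat.of R))).obj G ≅
      (constantSheaf W.left.smallEtaleTopology AddCommGrpCat.{u + 1}).obj (AddCommGrpCat.of M) :=
    ((LocConstGen24.resPullIso AddCommGrpCat.{u + 1} W).app G).symm ≪≫ e
  exact ⟨((EtDesc24.pullId _).app G).symm ≪≫
    (eqToIso (congrArg (fun h : Spec (CommRingCat.of R) ⟶ Spec (CommRingCat.of R) =>
      (EtCoh.pull h).obj G) hs.symm)) ≪≫
    (LocConstGen24.pullCompA AddCommGrpCat.{u + 1} s W.hom).app G ≪≫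
    (LocConstGen24.pullA AddCommGrpCat.{u + 1} s).mapIso e1 ≪≫
    (LocConstGen24.pullConstA AddCommGrpCat.{u + 1} s).app _⟩

/-- The values of the constant sheaf are torsion with the orders of the stalk. -/
theorem stalk_equiv {X : Scheme.{u}} (f : Spec (CommRingCat.of R) ⟶ X) (F : EtCoh.Ab X)
    (M : AddCommGrpCat.{u + 1}) (e : (EtCoh.pull f).obj F ≅ (cs (Spec (CommRingCat.of R))).obj M) :
    Nonempty ((EtCoh.stalk (closedPt R ≫ f)).obj F ≃+ M) := by
  let g : M →+ (EtCoh.stalk (closedPt R)).obj ((cs (Spec (CommRingCat.of R))).obj M) :=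
    (germ (closedPt R) _ (topFib R)).hom.comp (cst M _)
  exact ⟨((asIso (stalkPull f (closedPt R) F)).addCommGroupIsoToAddEquiv.trans
    ((EtCoh.stalk (closedPt R)).mapIso e).addCommGroupIsoToAddEquiv).trans
    (AddEquiv.ofBijective g (bijective_germ_cst M (closedPt R) (topFib R))).symm⟩

variable {V : Scheme.{u}} (ρ : V ⟶ Spec (CommRingCat.of R)) [PreservesFiniteLimits (EtCoh.pull ρ)]

theorem nonempty_of_H_zero_ne {n : ℕ} (hn : 1 < n)
    (h0 : Nonempty (EtCoh.H V (EtCoh.const V (ZMod n)) 0 ≃+ ZMod n)) : Nonempty V := by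
  by_contra hV
  rw [not_nonempty_iff] at hV
  have hz : IsZero (EtCoh.const V (ZMod n)) := by
    rw [isZero_iff_stalk]
    intro Ω _ _ ξ
    exact (hV.false (ξ default)).elim
  haveI : Subsingleton (EtCoh.H V (EtCoh.const V (ZMod n)) 0) :=
    AddCommGrpCat.subsingleton_of_isZero
      ((haveI : (EtCoh.HF V 0).Additive := by unfold EtCoh.HF; infer_instance
        Functor.map_isZero (EtCoh.HF V 0) hz))
  obtain ⟨e⟩ := h0
  haveI : Fact (1 < n) := ⟨hn⟩
  exact not_subsingleton (ZMod n) e.symm.toEquiv.subsingleton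

/-- Global sections of a constant sheaf as morphisms. -/
noncomputable def secEquiv (A : AddCommGrpCat.{u + 1}) :
    (EtCoh.const (Spec (CommRingCat.of R)) ℤ ⟶ (cs (Spec (CommRingCat.of R))).obj A) ≃ A :=
  ((EtCore.constAdj (Spec (CommRingCat.of R))).homEquiv _ _).trans
    ((AddCommGrpCat.uliftZMultiplesAddEquiv.{u + 1} _).toEquiv.trans
      (Equiv.ofBijective _ (bijective_cst_top R A)).symm)

theorem cst_secEquiv (A : AddCommGrpCat.{u + 1})
    (φ : EtCoh.const (Spec (CommRingCat.of R)) ℤ ⟶ (cs (Spec (CommRingCat.of R))).obj A) :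
    cst A (EtCoh.top _) (secEquiv A φ) = φ.hom.app (op (EtCoh.top _)) (oneSec _) := by
  refine (Equiv.ofBijective_apply_symm_apply _ (bijective_cst_top R A) _).trans ?_
  rfl

/-- The cyclic case in degree zero. -/
theorem bijective_Hpull_zmod_zero (n : ℕ) [NeZero n]
    (h0 : Nonempty (EtCoh.H V (EtCoh.const V (ZMod n)) 0 ≃+ ZMod n)) :
    Function.Bijective (EtCore.Hpull ρ (EtCoh.const (Spec (CommRingCat.of R)) (ZMod n)) 0) := by
  let A : AddCommGrpCat.{u + 1} := AddCommGrpCat.of (ULift.{u + 1} (ZMod n))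
  let eZ : EtCoh.H (Spec (CommRingCat.of R)) ((cs _).obj A) 0 ≃ A :=
    (Equiv.ofBijective _ (Ext.mk₀_bijective _ _)).symm.trans (secEquiv A)
  obtain ⟨eV⟩ := h0
  let eV' : EtCoh.H V ((EtCoh.pull ρ).obj ((cs (Spec (CommRingCat.of R))).obj A)) 0 ≃+ ZMod n :=
    (((EtCoh.HF V 0).mapIso (EtCore.pullConst ρ (ZMod n))).addCommGroupIsoToAddEquiv).trans eV
  haveI : Finite (EtCoh.H V ((EtCoh.pull ρ).obj ((cs (Spec (CommRingCat.of R))).obj A)) 0) :=
    Finite.of_equiv _ eV'.toEquiv.symm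
  refine (Nat.bijective_iff_injective_and_card _).2 ⟨?_,
    (Nat.card_congr eZ).trans ((Nat.card_congr (Equiv.ulift.trans eV'.toEquiv.symm)))⟩
  rw [injective_iff_map_eq_zero]
  intro z hz
  obtain ⟨φ, rfl⟩ := (Ext.mk₀_bijective _ _).2 z
  rcases Nat.lt_or_ge 1 n with hn | hn
  swap
  · haveI : Subsingleton (EtCoh.H (Spec (CommRingCat.of R)) ((cs _).obj A) 0) := by
      haveI : Subsingleton (ZMod n) := by
        have : n = 1 := le_antisymm hn (Nat.pos_of_ne_zero (NeZero.ne n))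
        subst this
        infer_instance
      haveI : Subsingleton A := inferInstanceAs (Subsingleton (ULift.{u + 1} (ZMod n)))
      exact eZ.subsingleton
    exact Subsingleton.elim _ _
  have h1 : (EtCoh.pull ρ).map φ = 0 := by
    rw [Hpull_eq, Ext.mapExactFunctor_mk₀] at hz
    erw [Ext.mk₀_comp_mk₀] at hz
    rw [← Ext.mk₀_zero] at hz
    exact (cancel_epi (EtCore.pullConst ρ ℤ).inv).1 (((Ext.mk₀_bijective _ _).1 hz).trans comp_zero.symm)
  obtain ⟨v⟩ := nonempty_of_H_zero_ne hn ⟨eV⟩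
  let ξ := EtStalk.geomPt V v
  obtain ⟨y, -⟩ := Scheme.pointSmallEtaleFiberObjToPreimage_surjective (ξ ≫ ρ)
    (s₀ := (ξ ≫ ρ) default) rfl (EtCoh.top (Spec (CommRingCat.of R))) ⟨(ξ ≫ ρ) default, rfl⟩
  have h2 : (EtCoh.stalk (ξ ≫ ρ)).map φ = 0 := by
    rw [← cancel_mono (stalkPull ρ ξ _), ← stalkPull_nat, h1, Functor.map_zero, comp_zero, zero_comp]
  have h3 : germ (ξ ≫ ρ) _ y (φ.hom.app (op (EtCoh.top _)) (oneSec _)) = 0 := by
    rw [← germ_nat, h2]
    rfl
  rw [← cst_secEquiv] at h3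
  have h4 : secEquiv A φ = 0 := (bijective_germ_cst A (ξ ≫ ρ) y).1 (h3.trans (by simp))
  have h5 : φ = 0 := by
    refine const_hom_ext ?_
    rw [← cst_secEquiv, h4, map_zero]
    rfl
  rw [h5, Ext.mk₀_zero]

/-- The cyclic case. -/
theorem bijective_Hpull_zmod (n : ℕ) [NeZero n] (q : ℕ)
    (hq : ∀ q : ℕ, 0 < q → Subsingleton (EtCoh.H V (EtCoh.const V (ZMod n)) q))
    (h0 : Nonempty (EtCoh.H V (EtCoh.const V (ZMod n)) 0 ≃+ ZMod n)) :
    Function.Bijective (EtCore.Hpull ρ (EtCoh.const (Spec (CommRingCat.of R)) (ZMod n)) q) := by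
  rcases Nat.eq_zero_or_pos q with rfl | hq'
  · exact bijective_Hpull_zmod_zero ρ n h0
  · haveI := Groth.Agent.S0073.result R (EtCoh.const (Spec (CommRingCat.of R)) (ZMod n)) q hq'
    haveI := hq q hq'
    haveI : Subsingleton (EtCoh.H V ((EtCoh.pull ρ).obj (EtCoh.const (Spec (CommRingCat.of R)) (ZMod n))) q) :=
      @Equiv.subsingleton _ _
        ((EtCoh.HF V q).mapIso (EtCore.pullConst ρ (ZMod n))).addCommGroupIsoToAddEquiv.toEquiv (hq q hq')
    exact ⟨fun _ _ _ => Subsingleton.elim _ _, fun b => ⟨0, Subsingleton.elim _ _⟩⟩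

theorem bijective_Hpull_of_iso {G G' : EtCoh.Ab (Spec (CommRingCat.of R))} (e : G ≅ G') (q : ℕ)
    (h : Function.Bijective (EtCore.Hpull ρ G' q)) : Function.Bijective (EtCore.Hpull ρ G q) := by
  let a := ((EtCoh.HF (Spec (CommRingCat.of R)) q).mapIso e).addCommGroupIsoToAddEquiv
  let b := ((EtCoh.HF V q).mapIso ((EtCoh.pull ρ).mapIso e)).addCommGroupIsoToAddEquiv
  have : ∀ x, b (EtCore.Hpull ρ G q x) = EtCore.Hpull ρ G' q (a x) := fun x => Hpull_nat ρ e.hom q x
  refine ⟨fun x y hxy => a.injective (h.1 ?_), fun z => ?_⟩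
  · rw [← this, ← this, hxy]
  · obtain ⟨w, hw⟩ := h.2 (b z)
    obtain ⟨x, rfl⟩ := a.surjective w
    exact ⟨x, b.injective ((this x).trans hw)⟩

end Groth.Agent.LocAcyc24
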