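import Groth.Agent.Lib.FieldH25.Transfer
import Groth.Agent.Lib.EtStalk.IntegralUniv

/-!
# Cohomology of constant sheaves is invariant under isomorphisms
-/

set_option autoImplicit false
set_option linter.style.haveILetI false

universe u

open CategoryTheory CategoryTheory.Limits AlgebraicGeometry CategoryTheory.Abelian
open Groth.Agent.EtStalk

namespace Groth.Agent.LocAcyc24

theorem bijective_Hpull_of_isIso {X Y : Scheme.{u}} (f : X ⟶ Y) [IsIso f] (G : EtCoh.Ab Y) (n : ℕ) :
    Function.Bijective (EtCore.Hpull f G n) := by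
  haveI : IsIso ((EtCoh.pullPushAdj f).unit.app G) :=
    isIso_unit_integral f G fun y _ => ⟨inv f y, by rw [← Scheme.Hom.comp_apply, IsIso.inv_hom_id]; rfl⟩
  have h2 : Function.Bijective (fun x : EtCoh.H Y G n =>
      x.comp (Ext.mk₀ ((EtCoh.pullPushAdj f).unit.app G)) (add_zero n)) := by
    refine Function.bijective_iff_has_inverse.2
      ⟨fun y => y.comp (Ext.mk₀ (inv ((EtCoh.pullPushAdj f).unit.app G))) (add_zero n), fun x => ?_, fun y => ?_⟩
    · simp only [Ext.comp_assoc_of_third_deg_zero]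
      erw [Ext.mk₀_comp_mk₀]
      rw [IsIso.hom_inv_id, Ext.comp_mk₀_id]
    · simp only [Ext.comp_assoc_of_third_deg_zero]
      erw [Ext.mk₀_comp_mk₀]
      rw [IsIso.inv_hom_id, Ext.comp_mk₀_id]
  have h1 := FieldH25.bijective_HofPush_integral f ((EtCoh.pull f).obj G) n
  refine ⟨fun a b e => h2.1 ?_, fun c => ?_⟩
  · refine h1.1 ?_
    rw [FieldH25.HofPush_unit, FieldH25.HofPush_unit, e]
  · obtain ⟨y, rfl⟩ := h1.2 c
    obtain ⟨x, rfl⟩ := h2.2 y
    exact ⟨x, (FieldH25.HofPush_unit f G n x).symm⟩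

/-- Cohomology of constant sheaves along an isomorphism. -/
theorem nonempty_H_const_addEquiv {X Y : Scheme.{u}} (f : X ⟶ Y) [IsIso f] (M : Type) [AddCommGroup M] (n : ℕ) :
    Nonempty (EtCoh.H Y (EtCoh.const Y M) n ≃+ EtCoh.H X (EtCoh.const X M) n) :=
  ⟨(AddEquiv.ofBijective _ (bijective_Hpull_of_isIso f (EtCoh.const Y M) n)).trans
    ((EtCoh.HF X n).mapIso (EtCore.pullConst f M)).addCommGroupIsoToAddEquiv⟩

end Groth.Agent.LocAcyc24
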