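import Groth.Agent.Lib.EtColim.Main
import Groth.Agent.Lib.EtStalk.HpullComp
import Groth.Agent.Lib.EtStalk.Pull
import Groth.Agent.Lib.EtStalk.Henselian
import Groth.Agent.Lib.LocConst24.Const
import Groth.Agent.S0073
import Mathlib.GroupTheory.FiniteAbelian.Basic
import Mathlib.CategoryTheory.Limits.Types.Filtered

/-!
# Pullback on cohomology of constant torsion sheaves: reduction to cyclic groups
-/

set_option autoImplicit false
set_option linter.style.haveILetI false
set_option backward.isDefEq.respectTransparency.types false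

universe u

open CategoryTheory CategoryTheory.Limits AlgebraicGeometry Opposite CategoryTheory.Abelian
open Groth.Agent.EtStalk Groth.Agent.EtSite Groth.Agent.LocConst24

namespace Groth.Agent.LocAcyc24

variable {V Z : Scheme.{u}}

/-- The constant sheaf functor. -/
noncomputable abbrev cs (X : Scheme.{u}) : AddCommGrpCat.{u + 1} ⥤ EtCoh.Ab X :=
  constantSheaf X.smallEtaleTopology AddCommGrpCat.{u + 1}

/-- The constant sections. -/
noncomputable def cst (A : AddCommGrpCat.{u + 1}) (U : Z.Etale) : A →+ ((cs Z).obj A).obj.obj (op U) :=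
  ((toSheafify Z.smallEtaleTopology ((Functor.const Z.Etaleᵒᵖ).obj A)).app (op U)).hom

theorem cst_res (A : AddCommGrpCat.{u + 1}) {U W : Z.Etale} (g : W ⟶ U) (m : A) :
    ((cs Z).obj A).obj.map g.op (cst A U m) = cst A W m :=
  (NatTrans.naturality_apply (toSheafify Z.smallEtaleTopology ((Functor.const Z.Etaleᵒᵖ).obj A)) g.op m).symm

/-- Constant sections give the stalks of a constant sheaf. -/
theorem bijective_germ_cst (A : AddCommGrpCat.{u + 1}) {Ω : Type u} [Field Ω] [IsSepClosed Ω]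
    (ξ : Spec (CommRingCat.of Ω) ⟶ Z) {U : Z.Etale} (x : fib ξ U) :
    Function.Bijective fun m : A => germ ξ ((cs Z).obj A) x (cst A U m) := by
  let P : Z.Etaleᵒᵖ ⥤ AddCommGrpCat.{u + 1} := (Functor.const Z.Etaleᵒᵖ).obj A
  let J := Z.smallEtaleTopology
  constructor
  · intro m n e
    obtain ⟨W, g, y, -, he⟩ := (germ_eq_iff ξ ((cs Z).obj A) x _ _).1 e
    rw [cst_res, cst_res] at he
    have hs := Presheaf.equalizerSieve_mem J (toSheafify J P) m n he
    rw [mem_et_iff] at hs
    obtain ⟨W', f, w, hf, -⟩ := hs (fibPt y)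
    exact hf
  · intro q
    obtain ⟨W, x', s, rfl⟩ := germ_surjective ξ ((cs Z).obj A) q
    obtain ⟨W', z, a, b, ha, hb⟩ := exists_common_fib ξ x x'
    have hR := Presheaf.imageSieve_mem J (toSheafify J P) (((cs Z).obj A).obj.map b.op s)
    obtain ⟨T, c, ⟨m, hm⟩, z', hz'⟩ := (Scheme.pointSmallEtale ξ).jointly_surjective _ hR z
    refine ⟨m, ?_⟩
    show germ ξ _ x (cst A U m) = germ ξ _ x' s
    rw [← ha, ← hb, ← germ_map, ← germ_map, ← hz', ← germ_map, ← germ_map, cst_res, cst_res]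
    exact congrArg _ hm

/-- Global sections of a constant sheaf on a strictly henselian scheme. -/
theorem bijective_cst_top (R : Type u) [CommRing R] [HenselianLocalRing R]
    [IsSepClosed (IsLocalRing.ResidueField R)] (A : AddCommGrpCat.{u + 1}) :
    Function.Bijective (cst A (EtCoh.top (Spec (CommRingCat.of R)))) :=
  (Function.Bijective.of_comp_iff' (bijective_germ_top R _) _).1 (bijective_germ_cst A (closedPt R) (topFib R))

variable (ρ : V ⟶ Z) [PreservesFiniteLimits (EtCoh.pull ρ)]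

theorem Hpull_nat {G G' : EtCoh.Ab Z} (φ : G ⟶ G') (q : ℕ) (x : EtCoh.H Z G q) :
    (EtCore.Hpull ρ G q x).comp (Ext.mk₀ ((EtCoh.pull ρ).map φ)) (add_zero q) =
      EtCore.Hpull ρ G' q (x.comp (Ext.mk₀ φ) (add_zero q)) := by
  rw [Hpull_eq, Hpull_eq, Ext.mapExactFunctor_comp, Ext.mapExactFunctor_mk₀]
  simp only [Ext.comp_assoc_of_third_deg_zero]

/-- Pullback on cohomology as a natural transformation. -/
noncomputable def HpullTrans (q : ℕ) : cs Z ⋙ EtCoh.HF Z q ⟶ cs Z ⋙ EtCoh.pull ρ ⋙ EtCoh.HF V q where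
  app A := AddCommGrpCat.ofHom (EtCore.Hpull ρ ((cs Z).obj A) q)
  naturality A B φ := by
    ext x
    exact (Hpull_nat ρ ((cs Z).map φ) q x).symm

theorem isIso_HpullTrans_iff (q : ℕ) (A : AddCommGrpCat.{u + 1}) :
    IsIso ((HpullTrans ρ q).app A) ↔ Function.Bijective (EtCore.Hpull ρ ((cs Z).obj A) q) :=
  ConcreteCategory.isIso_iff_bijective _

instance (X : Scheme.{u}) : (cs X).Additive :=
  haveI : ((sheafSections X.smallEtaleTopology AddCommGrpCat.{u + 1}).obj (op (EtCoh.top X))).Additive := { }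
  (constantSheafAdj X.smallEtaleTopology AddCommGrpCat.{u + 1} (EtCore.topIsTerminal X)).left_adjoint_additive

/-- The class is closed under finite sums. -/
theorem bijective_of_decomp {ι : Type} [Fintype ι] (q : ℕ) (A : AddCommGrpCat.{u + 1})
    (B : ι → AddCommGrpCat.{u + 1}) (π : ∀ i, A ⟶ B i) (ι' : ∀ i, B i ⟶ A)
    (hsum : ∑ i, π i ≫ ι' i = 𝟙 A)
    (h : ∀ i, Function.Bijective (EtCore.Hpull ρ ((cs Z).obj (B i)) q)) :
    Function.Bijective (EtCore.Hpull ρ ((cs Z).obj A) q) := by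
  let η := HpullTrans ρ q
  haveI : (EtCoh.HF Z q).Additive := by unfold EtCoh.HF; infer_instance
  haveI : (EtCoh.HF V q).Additive := by unfold EtCoh.HF; infer_instance
  haveI : ∀ i, IsIso (η.app (B i)) := fun i => (isIso_HpullTrans_iff ρ q _).2 (h i)
  refine (isIso_HpullTrans_iff ρ q A).1
    ⟨∑ i, (cs Z ⋙ EtCoh.pull ρ ⋙ EtCoh.HF V q).map (π i) ≫ inv (η.app (B i)) ≫
      (cs Z ⋙ EtCoh.HF Z q).map (ι' i), ?_, ?_⟩
  · show η.app A ≫ _ = _
    rw [Preadditive.comp_sum, ← CategoryTheory.Functor.map_id, ← hsum, Functor.map_sum]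
    refine Finset.sum_congr rfl fun i _ => ?_
    rw [← Category.assoc, ← η.naturality, Category.assoc, IsIso.hom_inv_id_assoc, Functor.map_comp]
  · show _ ≫ η.app A = _
    rw [Preadditive.sum_comp, ← CategoryTheory.Functor.map_id, ← hsum, Functor.map_sum]
    refine Finset.sum_congr rfl fun i _ => ?_
    rw [Category.assoc, Category.assoc, η.naturality, IsIso.inv_hom_id_assoc, Functor.map_comp]

/-- The class is closed under filtered colimits. -/
theorem bijective_of_colimit [CompactSpace Z] [QuasiSeparatedSpace Z] [CompactSpace V] [QuasiSeparatedSpace V]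
    (q : ℕ) {Λ : Type (u + 1)} [SmallCategory Λ] [IsFiltered Λ] {D : Λ ⥤ AddCommGrpCat.{u + 1}} {c : Cocone D}
    (hc : IsColimit c) (h : ∀ i, Function.Bijective (EtCore.Hpull ρ ((cs Z).obj (D.obj i)) q)) :
    Function.Bijective (EtCore.Hpull ρ ((cs Z).obj c.pt) q) := by
  haveI := EtColim.preservesColimitsOfShape_HF Z q Λ
  haveI := EtColim.preservesColimitsOfShape_HF V q Λ
  haveI : (cs Z).IsLeftAdjoint :=
    (constantSheafAdj Z.smallEtaleTopology AddCommGrpCat.{u + 1} (EtCore.topIsTerminal Z)).isLeftAdjoint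
  haveI : (EtCoh.pull ρ).IsLeftAdjoint := (EtCoh.pullPushAdj ρ).isLeftAdjoint
  haveI : PreservesColimitsOfShape Λ (cs Z) := inferInstance
  haveI : PreservesColimitsOfShape Λ (EtCoh.pull ρ) := inferInstance
  haveI : ∀ i, IsIso ((Functor.whiskerLeft D (HpullTrans ρ q)).app i) := fun i =>
    (isIso_HpullTrans_iff ρ q _).2 (h i)
  haveI : IsIso (Functor.whiskerLeft D (HpullTrans ρ q)) := NatIso.isIso_of_isIso_app _
  let t₁ := isColimitOfPreserves (cs Z ⋙ EtCoh.HF Z q) hc
  let t₂ := isColimitOfPreserves (cs Z ⋙ EtCoh.pull ρ ⋙ EtCoh.HF V q) hc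
  refine (isIso_HpullTrans_iff ρ q c.pt).1 ?_
  have e : (HpullTrans ρ q).app c.pt =
      (IsColimit.coconePointsIsoOfNatIso t₁ t₂ (asIso (Functor.whiskerLeft D (HpullTrans ρ q)))).hom := by
    refine t₁.hom_ext fun i => ?_
    rw [IsColimit.comp_coconePointsIsoOfNatIso_hom]
    exact (HpullTrans ρ q).naturality (c.ι.app i)
  rw [e]
  infer_instance

/-- A finite abelian group all of whose cyclic prime power factors are in the class is in it. -/
theorem bijective_of_finite (q : ℕ) (A : AddCommGrpCat.{u + 1}) [Finite A]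
    (h : ∀ n : ℕ, 0 < n → (∃ a : A, addOrderOf a = n) →
      Function.Bijective (EtCore.Hpull ρ ((cs Z).obj (AddCommGrpCat.of (ULift.{u + 1} (ZMod n)))) q)) :
    Function.Bijective (EtCore.Hpull ρ ((cs Z).obj A) q) := by
  classical
  obtain ⟨ι, hι, p, hp, e, ⟨φ⟩⟩ := AddCommGroup.equiv_directSum_zmod_of_finite A
  refine bijective_of_decomp ρ (ι := ι) q A (fun i => AddCommGrpCat.of (ULift.{u + 1} (ZMod (p i ^ e i))))
    (fun i => AddCommGrpCat.ofHom (AddEquiv.ulift.symm.toAddMonoidHom.comp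
      ((DFinsupp.evalAddMonoidHom i).comp φ.toAddMonoidHom)))
    (fun i => AddCommGrpCat.ofHom ((φ.symm.toAddMonoidHom.comp
      (DirectSum.of (fun j => ZMod (p j ^ e j)) i)).comp AddEquiv.ulift.toAddMonoidHom)) ?_ fun i => ?_
  · ext a
    refine (congrFun (congrArg DFunLike.coe
      (map_sum (AddMonoidHom.mk' (fun f : A ⟶ A => f.hom) fun _ _ => rfl) _ Finset.univ)) a).trans ?_
    rw [AddMonoidHom.finsetSum_apply]
    show (∑ i, φ.symm (DirectSum.of (fun j => ZMod (p j ^ e j)) i ((φ a) i))) = a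
    rw [← map_sum, DirectSum.sum_univ_of, φ.symm_apply_apply]
  · refine h _ (pow_pos (hp i).pos _) ⟨φ.symm (DirectSum.of (fun j => ZMod (p j ^ e j)) i 1), ?_⟩
    refine (addOrderOf_injective φ.symm.toAddMonoidHom φ.symm.injective _).trans ?_
    rw [addOrderOf_injective (DirectSum.of (fun j => ZMod (p j ^ e j)) i) (DirectSum.of_injective i),
      ZMod.addOrderOf_one]

/-- A torsion group all of whose cyclic subgroups are in the class is in it. -/
theorem bijective_of_torsion [CompactSpace Z] [QuasiSeparatedSpace Z] [CompactSpace V] [QuasiSeparatedSpace V]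
    (q : ℕ) (A : AddCommGrpCat.{u + 1}) (hA : IsAddTorsion A)
    (h : ∀ n : ℕ, 0 < n → (∃ a : A, addOrderOf a = n) →
      Function.Bijective (EtCore.Hpull ρ ((cs Z).obj (AddCommGrpCat.of (ULift.{u + 1} (ZMod n)))) q)) :
    Function.Bijective (EtCore.Hpull ρ ((cs Z).obj A) q) := by
  classical
  let Λ := {N : AddSubgroup A // N.FG}
  haveI : IsDirected Λ (· ≤ ·) := ⟨fun a b => ⟨⟨a.1 ⊔ b.1, a.2.sup b.2⟩,
    show a.1 ≤ a.1 ⊔ b.1 from le_sup_left, show b.1 ≤ a.1 ⊔ b.1 from le_sup_right⟩⟩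
  haveI : Nonempty Λ := ⟨⟨⊥, ⟨∅, by simp⟩⟩⟩
  let D : Λ ⥤ AddCommGrpCat.{u + 1} :=
    { obj := fun N => AddCommGrpCat.of N.1
      map := fun {a b} f => AddCommGrpCat.ofHom (AddSubgroup.inclusion (show a.1 ≤ b.1 from leOfHom f)) }
  let c : Cocone D :=
    { pt := A
      ι := { app := fun N => AddCommGrpCat.ofHom N.1.subtype, naturality := fun _ _ _ => rfl } }
  have hc : IsColimit c := by
    haveI : PreservesColimitsOfShape Λ (forget AddCommGrpCat.{u + 1}) :=
      PreservesFilteredColimitsOfSize.preserves_filtered_colimits Λ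
    haveI := reflectsColimitsOfShape_of_reflectsIsomorphisms (J := Λ) (G := forget AddCommGrpCat.{u + 1})
    refine isColimitOfReflects (forget AddCommGrpCat.{u + 1}) ?_
    refine Types.FilteredColimit.isColimitOf _ _ (fun a => ?_) fun i j xi xj hij => ?_
    · exact ⟨⟨AddSubgroup.closure {a}, ⟨{a}, by simp⟩⟩, ⟨a, AddSubgroup.subset_closure rfl⟩, rfl⟩
    · exact ⟨⟨i.1 ⊔ j.1, i.2.sup j.2⟩, homOfLE (show i.1 ≤ _ from le_sup_left),
        homOfLE (show j.1 ≤ _ from le_sup_right), Subtype.ext hij⟩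
  refine bijective_of_colimit ρ q hc fun N => ?_
  haveI : AddGroup.FG N.1 := (AddGroup.fg_iff_addSubgroup_fg N.1).2 N.2
  haveI : Finite N.1 := AddCommGroup.finite_of_fg_torsion N.1 (fun a => by
    obtain ⟨n, hn, h0⟩ := isOfFinAddOrder_iff_nsmul_eq_zero.1 (hA (a : A))
    exact isOfFinAddOrder_iff_nsmul_eq_zero.2 ⟨n, hn, Subtype.ext (by simpa using h0)⟩)
  refine bijective_of_finite ρ q (AddCommGrpCat.of N.1) fun n hn ⟨a, ha⟩ => h n hn ⟨(a : A), ?_⟩
  rw [← ha]
  exact addOrderOf_injective N.1.subtype Subtype.coe_injective a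

end Groth.Agent.LocAcyc24
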