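import Groth.Agent.Lib.LocAcyc24.BaseChange
import Groth.Agent.Lib.LocAcyc24.Transport
import Groth.Agent.Lib.Hens.Henselization
import Groth.Prelude.Def_EtRestW

/-!
# Base change of local acyclicity
-/

set_option autoImplicit false
set_option linter.style.haveILetI false

universe u

open CategoryTheory CategoryTheory.Limits AlgebraicGeometry IsLocalRing
open scoped TensorProduct

namespace Groth.Agent.LocAcyc24

theorem isLocallyAcyclic_baseChange {X S S' : Scheme.{u}} (f : X ⟶ S) (g : S' ⟶ S)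
    (hg : ∀ (t' : S') (t : S) (A : Type u) [CommRing A] [IsLocalRing A] [Algebra (S.presheaf.stalk t) A]
      [IsLocalHom (algebraMap (S.presheaf.stalk t) A)] [Hensel.IsStrictHenselization (S.presheaf.stalk t) A]
      (A' : Type u) [CommRing A'] [IsLocalRing A'] [Algebra (S'.presheaf.stalk t') A']
      [IsLocalHom (algebraMap (S'.presheaf.stalk t') A')]
      [Hensel.IsStrictHenselization (S'.presheaf.stalk t') A'] (φ : A →+* A') [IsLocalHom φ],
      Spec.map (CommRingCat.ofHom φ) ≫ Hens2.specOf S t A = Hens2.specOf S' t' A' ≫ g → φ.IsIntegral)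
    (hf : EtRest.IsLocallyAcyclic f) : EtRest.IsLocallyAcyclic (pullback.snd f g) := by
  intro x' RS' RX' _ _ _ _ _ _ _ _ _ _ _ _ hc Ω _ _ _ n hn
  let x := (pullback.fst f g).base x'
  obtain ⟨γ, φ, hγ, hcomp, he⟩ := exists_strictLocalization_baseChange f g hg x' RS' RX'
    (Hens.Hsh (S.presheaf.stalk (f.base x))) (Hens.Hsh (X.presheaf.stalk x)) hc
  obtain ⟨e⟩ := he Ω
  letI := γ.toAlgebra
  letI : Algebra (Hens.Hsh (S.presheaf.stalk (f.base x))) Ω := ((algebraMap RS' Ω).comp φ).toAlgebra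
  haveI : IsLocalHom (algebraMap (Hens.Hsh (S.presheaf.stalk (f.base x)))
      (Hens.Hsh (X.presheaf.stalk x))) := hγ
  have hn' : (n : X.residueField x) ≠ 0 := fun h => hn (by
    rw [← map_natCast ((pullback.fst f g).residueFieldMap x').hom n]
    exact (congrArg _ h).trans (map_zero _))
  obtain ⟨h1, ⟨h2⟩⟩ := hf x (Hens.Hsh (S.presheaf.stalk (f.base x))) (Hens.Hsh (X.presheaf.stalk x))
    hcomp Ω n hn'
  haveI : IsIso (Spec.map (CommRingCat.ofHom e.toRingHom)) := by
    haveI : IsIso (CommRingCat.ofHom e.toRingHom) := e.toCommRingCatIso.isIso_hom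
    infer_instance
  refine ⟨fun q hq => ?_, ?_⟩
  · haveI := h1 q hq
    obtain ⟨i⟩ := nonempty_H_const_addEquiv (Spec.map (CommRingCat.ofHom e.toRingHom)) (ZMod n) q
    exact i.symm.toEquiv.subsingleton_congr.2 inferInstance
  · obtain ⟨i⟩ := nonempty_H_const_addEquiv (Spec.map (CommRingCat.ofHom e.toRingHom)) (ZMod n) 0
    exact ⟨i.symm.trans h2⟩

theorem isIntegral_specOf_isIntegralHom {S S' : Scheme.{u}} (g : S' ⟶ S) [IsIntegralHom g] (t' : S') (t : S)
    (A : Type u) [CommRing A] [IsLocalRing A] [Algebra (S.presheaf.stalk t) A]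
    [IsLocalHom (algebraMap (S.presheaf.stalk t) A)] [Hensel.IsStrictHenselization (S.presheaf.stalk t) A]
    (A' : Type u) [CommRing A'] [IsLocalRing A'] [Algebra (S'.presheaf.stalk t') A']
    [IsLocalHom (algebraMap (S'.presheaf.stalk t') A')]
    [Hensel.IsStrictHenselization (S'.presheaf.stalk t') A'] (φ : A →+* A') [IsLocalHom φ]
    (h : Spec.map (CommRingCat.ofHom φ) ≫ Hens2.specOf S t A = Hens2.specOf S' t' A' ≫ g) : φ.IsIntegral := by
  obtain rfl := closedPoint_image (X := S') (x := t') φ g h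
  exact isIntegral_of_isIntegralHom g φ ((specOf_compat g φ).2 h)

theorem isIntegral_specOf_quasiFinite {S S' : Scheme.{u}} (g : S' ⟶ S) [LocallyOfFiniteType g]
    [LocallyQuasiFinite g] (t' : S') (t : S)
    (A : Type u) [CommRing A] [IsLocalRing A] [Algebra (S.presheaf.stalk t) A]
    [IsLocalHom (algebraMap (S.presheaf.stalk t) A)] [Hensel.IsStrictHenselization (S.presheaf.stalk t) A]
    (A' : Type u) [CommRing A'] [IsLocalRing A'] [Algebra (S'.presheaf.stalk t') A']
    [IsLocalHom (algebraMap (S'.presheaf.stalk t') A')]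
    [Hensel.IsStrictHenselization (S'.presheaf.stalk t') A'] (φ : A →+* A') [IsLocalHom φ]
    (h : Spec.map (CommRingCat.ofHom φ) ≫ Hens2.specOf S t A = Hens2.specOf S' t' A' ≫ g) : φ.IsIntegral := by
  obtain rfl := closedPoint_image (X := S') (x := t') φ g h
  exact isIntegral_of_quasiFinite g φ ((specOf_compat g φ).2 h)

end Groth.Agent.LocAcyc24
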