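import Groth.Agent.Lib.LocAcyc24.BaseChange
import Groth.Agent.Lib.Hens.Henselization
import Groth.Prelude.Def_EtAcyc

/-!
# Cancellation of local properties in a composite
-/

set_option autoImplicit false
set_option linter.style.haveILetI false
set_option backward.isDefEq.respectTransparency.types false

universe u

open CategoryTheory AlgebraicGeometry IsLocalRing

namespace Groth.Agent.LocAcyc24

section Ring

variable {A B C RA RB RC : Type u} [CommRing A] [IsLocalRing A] [CommRing B] [IsLocalRing B]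
  [CommRing C] [IsLocalRing C] [CommRing RA] [IsLocalRing RA] [CommRing RB] [IsLocalRing RB]
  [CommRing RC] [IsLocalRing RC]
  [Algebra A RA] [IsLocalHom (algebraMap A RA)] [Hensel.IsStrictHenselization A RA]
  [Algebra B RB] [IsLocalHom (algebraMap B RB)] [Hensel.IsStrictHenselization B RB]
  [Algebra C RC] [IsLocalHom (algebraMap C RC)] [Hensel.IsStrictHenselization C RC]

theorem isLocalHom_of_residue {R T : Type u} [CommRing R] [IsLocalRing R] [CommRing T] [IsLocalRing T]
    (g : R →+* T) (τ : ResidueField R →+* ResidueField T) (h : ∀ r, residue T (g r) = τ (residue R r)) :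
    IsLocalHom g :=
  ⟨fun r hr => by
    rw [← residue_ne_zero_iff_isUnit] at hr ⊢
    intro h0
    exact hr (by rw [h, h0, map_zero])⟩

/-- A local map extends to strict henselizations. -/
theorem exists_map_sh (f : A →+* B) [IsLocalHom f] :
    ∃ φ : RA →+* RB, IsLocalHom φ ∧ φ.comp (algebraMap A RA) = (algebraMap B RB).comp f := by
  haveI : HenselianLocalRing RB := Hensel.IsStrictHenselization.henselian (R := B)
  haveI := (Hensel.IsStrictHenselization.isSepClosure (R := B) (S := RB)).1
  haveI : IsLocalHom ((algebraMap B RB).comp f) := RingHom.isLocalHom_comp _ _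
  obtain ⟨τ, hτ⟩ := Hens.exists_residue_lift A RA ((algebraMap B RB).comp f)
  obtain ⟨φ, ⟨hφ, hφτ⟩, -⟩ := Hensel.IsStrictHenselization.universal (R := A) (S := RA) RB
    ((algebraMap B RB).comp f) τ hτ
  exact ⟨φ, isLocalHom_of_residue φ τ hφτ, hφ⟩

/-- A map of strict henselizations over a composite factors through any one over the second factor. -/
theorem exists_factor_sh (f : A →+* B) [IsLocalHom f] (g : B →+* C) [IsLocalHom g]
    (φ : RB →+* RC) [IsLocalHom φ] (hφ : φ.comp (algebraMap B RB) = (algebraMap C RC).comp g)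
    (χ : RA →+* RC) [IsLocalHom χ] (hχ : χ.comp (algebraMap A RA) = (algebraMap C RC).comp (g.comp f)) :
    ∃ ψ : RA →+* RB, IsLocalHom ψ ∧ ψ.comp (algebraMap A RA) = (algebraMap B RB).comp f ∧
      φ.comp ψ = χ := by
  haveI : HenselianLocalRing RB := Hensel.IsStrictHenselization.henselian (R := B)
  haveI : HenselianLocalRing RC := Hensel.IsStrictHenselization.henselian (R := C)
  haveI := (Hensel.IsStrictHenselization.isSepClosure (R := B) (S := RB)).1
  haveI := (Hensel.IsStrictHenselization.isSepClosure (R := A) (S := RA)).2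
  haveI : IsLocalHom ((algebraMap B RB).comp f) := RingHom.isLocalHom_comp _ _
  have hc : ∀ a, φ (algebraMap B RB (f a)) = χ (algebraMap A RA a) := fun a =>
    (congr($hφ (f a))).trans (congr($hχ a)).symm
  obtain ⟨τ, hτ⟩ := exists_factor (ResidueField.map φ) (ResidueField.map χ) fun z => by
    refine mem_range_of_separable (k := ResidueField A)
      (ResidueField.map ((algebraMap B RB).comp f)) _ _ (RingHom.ext fun y => ?_) z
    obtain ⟨a, rfl⟩ := residue_surjective y
    exact congrArg (residue RC) (hc a).symm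
  have hτA : τ.comp (ResidueField.map (algebraMap A RA)) = ResidueField.map ((algebraMap B RB).comp f) :=
    RingHom.ext fun y => by
      obtain ⟨a, rfl⟩ := residue_surjective y
      refine (ResidueField.map φ).injective ?_
      show ((ResidueField.map φ).comp τ) _ = _
      rw [hτ]
      exact congrArg (residue RC) (hc a).symm
  obtain ⟨ψ, ⟨hψ, hψτ⟩, -⟩ := Hensel.IsStrictHenselization.universal (R := A) (S := RA) RB
    ((algebraMap B RB).comp f) τ hτA
  refine ⟨ψ, isLocalHom_of_residue ψ τ hψτ, hψ, ?_⟩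
  haveI : IsLocalHom (χ.comp (algebraMap A RA)) := RingHom.isLocalHom_comp _ _
  refine Hens.strictHenselization_hom_ext A RA χ (φ.comp ψ) ?_ fun r => ?_
  · rw [RingHom.comp_assoc, hψ, ← RingHom.comp_assoc, hφ, RingHom.comp_assoc, hχ]
  · show ResidueField.map φ (residue RB (ψ r)) = _
    rw [hψτ]
    exact congr($hτ (residue RA r))

end Ring

/-- A property with cancellation cancels on strict localisations. -/
theorem onStrictLocalizations_comp_iff
    (P : ∀ ⦃X' Y' : Scheme.{u}⦄, (X' ⟶ Y') → Prop)
    (hP : ∀ ⦃A B C : Scheme.{u}⦄ (a : A ⟶ B) (b : B ⟶ C), P a → (P b ↔ P (a ≫ b)))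
    {X Y Z : Scheme.{u}} (g : X ⟶ Y) (h : Y ⟶ Z) (hg : Function.Surjective g.base)
    (H : EtAcyc.OnStrictLocalizations g P) :
    EtAcyc.OnStrictLocalizations h P ↔ EtAcyc.OnStrictLocalizations (g ≫ h) P := by
  constructor
  · intro hh x RZ RX _ _ _ _ _ _ _ _ _ _ _ _ hc
    let RY := Hens.Hsh (Y.presheaf.stalk (g.base x))
    obtain ⟨φ, hφl, hφ⟩ := exists_map_sh (RA := RY) (RB := RX) (g.stalkMap x).hom
    replace hc := hc.trans (congrArg ((algebraMap (X.presheaf.stalk x) RX).comp)
      (congrArg CommRingCat.Hom.hom (Scheme.Hom.stalkMap_comp g h x)))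
    letI : Algebra (Z.presheaf.stalk (h.base (g.base x))) RZ :=
      ‹Algebra (Z.presheaf.stalk ((g ≫ h).base x)) RZ›
    haveI : IsLocalHom (algebraMap (Z.presheaf.stalk (h.base (g.base x))) RZ) :=
      ‹IsLocalHom (algebraMap (Z.presheaf.stalk ((g ≫ h).base x)) RZ)›
    haveI : Hensel.IsStrictHenselization (Z.presheaf.stalk (h.base (g.base x))) RZ :=
      ‹Hensel.IsStrictHenselization (Z.presheaf.stalk ((g ≫ h).base x)) RZ›
    obtain ⟨ψ, hψl, hψ, hψχ⟩ := exists_factor_sh (RA := RZ) (RB := RY) (RC := RX)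
      (h.stalkMap (g.base x)).hom (g.stalkMap x).hom φ hφ (algebraMap RZ RX) hc
    letI := ψ.toAlgebra
    letI := φ.toAlgebra
    haveI : IsLocalHom (algebraMap RZ RY) := hψl
    haveI : IsLocalHom (algebraMap RY RX) := hφl
    have h₂ := hh (g.base x) RZ RY hψ
    have h₁ := H x RY RX hφ
    have h₃ := (hP _ _ h₁).1 h₂
    rwa [← Spec.map_comp, ← CommRingCat.ofHom_comp,
      show (algebraMap RY RX).comp (algebraMap RZ RY) = algebraMap RZ RX from hψχ] at h₃
  · intro hgh y RZ RY _ _ _ _ _ _ _ _ _ _ _ _ hc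
    obtain ⟨x, rfl⟩ := hg y
    let RX := Hens.Hsh (X.presheaf.stalk x)
    obtain ⟨φ, hφl, hφ⟩ := exists_map_sh (RA := RY) (RB := RX) (g.stalkMap x).hom
    letI := φ.toAlgebra
    haveI : IsLocalHom (algebraMap RY RX) := hφl
    letI : Algebra RZ RX := (φ.comp (algebraMap RZ RY)).toAlgebra
    haveI : IsLocalHom (algebraMap RZ RX) := RingHom.isLocalHom_comp φ (algebraMap RZ RY)
    refine (hP _ _ (H x RY RX hφ)).2 ?_
    rw [← Spec.map_comp, ← CommRingCat.ofHom_comp]
    letI : Algebra (Z.presheaf.stalk ((g ≫ h).base x)) RZ :=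
      ‹Algebra (Z.presheaf.stalk (h.base (g.base x))) RZ›
    haveI : IsLocalHom (algebraMap (Z.presheaf.stalk ((g ≫ h).base x)) RZ) :=
      ‹IsLocalHom (algebraMap (Z.presheaf.stalk (h.base (g.base x))) RZ)›
    haveI : Hensel.IsStrictHenselization (Z.presheaf.stalk ((g ≫ h).base x)) RZ :=
      ‹Hensel.IsStrictHenselization (Z.presheaf.stalk (h.base (g.base x))) RZ›
    refine hgh x RZ RX ?_
    show (φ.comp (algebraMap RZ RY)).comp (algebraMap (Z.presheaf.stalk (h.base (g.base x))) RZ) = _
    rw [RingHom.comp_assoc, hc, ← RingHom.comp_assoc, hφ, RingHom.comp_assoc]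
    exact (congrArg ((algebraMap (X.presheaf.stalk x) RX).comp)
      (congrArg CommRingCat.Hom.hom (Scheme.Hom.stalkMap_comp g h x))).symm

end Groth.Agent.LocAcyc24
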