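import Groth.Agent.Lib.LocAcyc24.Integral
import Mathlib.AlgebraicGeometry.Pullbacks
import Mathlib.RingTheory.TensorProduct.Basic

/-!
# Strict localisations of a base change along a morphism integral on strict localisations
-/

set_option autoImplicit false
set_option linter.style.haveILetI false
set_option backward.isDefEq.respectTransparency.types false

universe u

open CategoryTheory CategoryTheory.Limits AlgebraicGeometry IsLocalRing
open scoped TensorProduct

namespace Groth.Agent.LocAcyc24

/-- A separably closed field contains every element of an extension satisfying a separable equation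
over a subfield. -/
theorem mem_range_of_separable {k l K L : Type u} [Field k] [Field l] [Field K] [Field L] [Algebra k l]
    [Algebra.IsSeparable k l] [IsSepClosed K] (i : k →+* K) (b : K →+* L) (j : l →+* L)
    (h : j.comp (algebraMap k l) = b.comp i) (z : l) : j z ∈ Set.range b := by
  letI := b.toAlgebra
  have hz : IsSeparable k z := Algebra.IsSeparable.isSeparable k z
  let P : Polynomial K := (minpoly k z).map i
  have hP : Polynomial.aeval (j z) P = 0 := by
    rw [Polynomial.aeval_def, Polynomial.eval₂_map, show (algebraMap K L).comp i = j.comp (algebraMap k l) from h.symm,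
      ← Polynomial.hom_eval₂, ← Polynomial.aeval_def, minpoly.aeval, map_zero]
  have hmonic : P.Monic := (minpoly.monic hz.isIntegral).map i
  have hint : IsIntegral K (j z) := ⟨P, hmonic, hP⟩
  have hs : (minpoly K (j z)).Separable := (Polynomial.Separable.map hz).of_dvd (minpoly.dvd K (j z) hP)
  exact minpoly.degree_eq_one_iff.mp (IsSepClosed.degree_eq_one_of_irreducible (k := K)
    (minpoly.irreducible hint) hs)

/-- Factorisation through a field map. -/
theorem exists_factor {l K L : Type u} [Field l] [Field K] [Field L] (b : K →+* L) (j : l →+* L)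
    (h : ∀ z, j z ∈ Set.range b) : ∃ τ : l →+* K, b.comp τ = j := by
  choose t ht using h
  refine ⟨{ toFun := t, map_one' := ?_, map_mul' := fun x y => ?_, map_zero' := ?_, map_add' := fun x y => ?_ },
    RingHom.ext ht⟩
  all_goals refine b.injective ?_
  all_goals simp [ht]

theorem tensor_ringEquiv {RS RS' RX RX' Ω : Type u} [CommRing RS] [CommRing RS'] [CommRing RX] [CommRing RX']
    [CommRing Ω] [Algebra RS RS'] [Algebra RS RX] [Algebra RS' RX'] [Algebra RS' Ω] [Algebra RS Ω]
    [IsScalarTower RS RS' Ω] (Ψ : RS' ⊗[RS] RX →ₐ[RS'] RX') (hΨ : Function.Bijective Ψ) :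
    Nonempty (RX ⊗[RS] Ω ≃+* RX' ⊗[RS'] Ω) :=
  ⟨(Algebra.TensorProduct.comm RS RX Ω).toRingEquiv.trans
    ((Algebra.TensorProduct.cancelBaseChange RS RS' RS' Ω RX).symm.toRingEquiv.trans
      ((Algebra.TensorProduct.congr (AlgEquiv.refl : Ω ≃ₐ[RS'] Ω) (AlgEquiv.ofBijective Ψ hΨ)).toRingEquiv.trans
        (Algebra.TensorProduct.comm RS' Ω RX').toRingEquiv))⟩

variable {X S S' : Scheme.{u}} (f : X ⟶ S) (g : S' ⟶ S)

/-- The strict localisations of a base change along a morphism which is integral on strict
localisations are the tensor products of the strict localisations. -/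
theorem exists_strictLocalization_baseChange
    (hg : ∀ (t' : S') (t : S) (A : Type u) [CommRing A] [IsLocalRing A] [Algebra (S.presheaf.stalk t) A]
      [IsLocalHom (algebraMap (S.presheaf.stalk t) A)] [Hensel.IsStrictHenselization (S.presheaf.stalk t) A]
      (A' : Type u) [CommRing A'] [IsLocalRing A'] [Algebra (S'.presheaf.stalk t') A']
      [IsLocalHom (algebraMap (S'.presheaf.stalk t') A')]
      [Hensel.IsStrictHenselization (S'.presheaf.stalk t') A'] (φ : A →+* A') [IsLocalHom φ],
      Spec.map (CommRingCat.ofHom φ) ≫ Hens2.specOf S t A = Hens2.specOf S' t' A' ≫ g → φ.IsIntegral)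
    (x' : (pullback f g : Scheme.{u}))
    (RS' RX' : Type u) [CommRing RS'] [CommRing RX'] [IsLocalRing RS'] [IsLocalRing RX']
    [Algebra (S'.presheaf.stalk ((pullback.snd f g).base x')) RS']
    [IsLocalHom (algebraMap (S'.presheaf.stalk ((pullback.snd f g).base x')) RS')]
    [Hensel.IsStrictHenselization (S'.presheaf.stalk ((pullback.snd f g).base x')) RS']
    [Algebra ((pullback f g).presheaf.stalk x') RX']
    [IsLocalHom (algebraMap ((pullback f g).presheaf.stalk x') RX')]
    [Hensel.IsStrictHenselization ((pullback f g).presheaf.stalk x') RX']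
    [Algebra RS' RX'] [IsLocalHom (algebraMap RS' RX')]
    (RS : Type u) [CommRing RS] [IsLocalRing RS]
    [Algebra (S.presheaf.stalk (f.base ((pullback.fst f g).base x'))) RS]
    [IsLocalHom (algebraMap (S.presheaf.stalk (f.base ((pullback.fst f g).base x'))) RS)]
    [Hensel.IsStrictHenselization (S.presheaf.stalk (f.base ((pullback.fst f g).base x'))) RS]
    (RX : Type u) [CommRing RX] [IsLocalRing RX]
    [Algebra (X.presheaf.stalk ((pullback.fst f g).base x')) RX]
    [IsLocalHom (algebraMap (X.presheaf.stalk ((pullback.fst f g).base x')) RX)]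
    [Hensel.IsStrictHenselization (X.presheaf.stalk ((pullback.fst f g).base x')) RX]
    (hc : (algebraMap RS' RX').comp (algebraMap (S'.presheaf.stalk ((pullback.snd f g).base x')) RS') =
      (algebraMap ((pullback f g).presheaf.stalk x') RX').comp ((pullback.snd f g).stalkMap x').hom) :
    ∃ (γ : RS →+* RX) (φ : RS →+* RS'),
      IsLocalHom γ ∧
      γ.comp (algebraMap _ RS) =
        (algebraMap _ RX).comp (f.stalkMap ((pullback.fst f g).base x')).hom ∧
      ∀ (Ω : Type u) [Field Ω] [Algebra RS' Ω],
        letI := γ.toAlgebra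
        letI : Algebra RS Ω := ((algebraMap RS' Ω).comp φ).toAlgebra
        Nonempty (RX ⊗[RS] Ω ≃+* RX' ⊗[RS'] Ω) := by
  let x := (pullback.fst f g).base x'
  haveI : HenselianLocalRing RS' :=
    Hensel.IsStrictHenselization.henselian (R := S'.presheaf.stalk ((pullback.snd f g).base x'))
  haveI : HenselianLocalRing RX' :=
    Hensel.IsStrictHenselization.henselian (R := (pullback f g).presheaf.stalk x')
  haveI : HenselianLocalRing RX := Hensel.IsStrictHenselization.henselian (R := X.presheaf.stalk x)
  haveI : HenselianLocalRing RS := Hensel.IsStrictHenselization.henselian (R := S.presheaf.stalk (f.base x))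
  haveI := (Hensel.IsStrictHenselization.isSepClosure
    (R := S'.presheaf.stalk ((pullback.snd f g).base x')) (S := RS')).1
  haveI := (Hensel.IsStrictHenselization.isSepClosure (R := (pullback f g).presheaf.stalk x') (S := RX')).1
  haveI := (Hensel.IsStrictHenselization.isSepClosure (R := X.presheaf.stalk x) (S := RX)).1
  haveI := (Hensel.IsStrictHenselization.isSepClosure (R := S.presheaf.stalk (f.base x)) (S := RS)).1
  have hsepS := (Hensel.IsStrictHenselization.isSepClosure (R := S.presheaf.stalk (f.base x)) (S := RS)).2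
  have hsepX' := (Hensel.IsStrictHenselization.isSepClosure (R := (pullback f g).presheaf.stalk x') (S := RX')).2
  let α : RS' →+* RX' := algebraMap RS' RX'
  haveI hαl : IsLocalHom α := inferInstanceAs (IsLocalHom (algebraMap RS' RX'))
  have hα := (specOf_compat (pullback.snd f g) α).1 hc
  -- the maps
  obtain ⟨β, hβl, hβ⟩ := exists_lift (X := X) (x := x) (R := RX)
    (Hens2.specOf (pullback f g) x' RX' ≫ pullback.fst f g) (by
      rw [Scheme.Hom.comp_apply]
      exact congrArg (pullback.fst f g).base (specOf_closedPoint (X := pullback f g) (x := x') (R := RX')))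
  obtain ⟨φ, hφl, hφ⟩ := exists_lift (X := S) (x := f.base x) (R := RS)
    (Hens2.specOf S' ((pullback.snd f g).base x') RS' ≫ g) (by
      rw [Scheme.Hom.comp_apply]
      refine (congrArg g.base (specOf_closedPoint (X := S') (R := RS'))).trans ?_
      exact (congrArg (fun m : pullback f g ⟶ S => m.base x') pullback.condition).symm)
  obtain ⟨f₀, hf₀l, hf₀⟩ := exists_localHom (T := RX) (x := f.base x) (Hens2.specOf X x RX ≫ f) (by
      rw [Scheme.Hom.comp_apply]
      exact congrArg f.base (specOf_closedPoint (X := X) (x := x) (R := RX)))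
  have hsq : Spec.map (CommRingCat.ofHom (α.comp φ)) ≫ Hens2.specOf S (f.base x) RS =
      Hens2.specOf (pullback f g) x' RX' ≫ pullback.fst f g ≫ f := by
    rw [CommRingCat.ofHom_comp, Spec.map_comp, Category.assoc, hφ, ← Category.assoc, hα, Category.assoc,
      pullback.condition]
  have hsq' : Spec.map (CommRingCat.ofHom (β.comp f₀)) ≫ S.fromSpecStalk (f.base x) =
      Hens2.specOf (pullback f g) x' RX' ≫ pullback.fst f g ≫ f := by
    rw [CommRingCat.ofHom_comp, Spec.map_comp, Category.assoc, hf₀, ← Category.assoc, hβ, Category.assoc]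
  have hs0 : (α.comp φ).comp (algebraMap (S.presheaf.stalk (f.base x)) RS) = β.comp f₀ := by
    refine ringHom_ext_specOf ?_
    rw [← specOf_map, hsq, hsq']
  haveI : IsLocalHom (α.comp φ) := RingHom.isLocalHom_comp _ _
  obtain ⟨τ, hτ⟩ := exists_factor (ResidueField.map β) (ResidueField.map (α.comp φ)) fun z => by
    haveI := hsepS
    refine mem_range_of_separable (k := ResidueField (S.presheaf.stalk (f.base x))) (ResidueField.map f₀) _ _
      (RingHom.ext fun y => ?_) z
    obtain ⟨a, rfl⟩ := residue_surjective y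
    exact congrArg (residue RX') congr($hs0 a)
  obtain ⟨γ, hγl, hγ₀, hγ, hγres⟩ := exists_lift_residue f₀ τ (RingHom.ext fun y => by
    obtain ⟨a, rfl⟩ := residue_surjective y
    refine (ResidueField.map β).injective ?_
    show ((ResidueField.map β).comp τ) _ = _
    rw [hτ]
    exact congrArg (residue RX') congr($hs0 a))
  have hγf : Spec.map (CommRingCat.ofHom γ) ≫ Hens2.specOf S (f.base x) RS = Hens2.specOf X x RX ≫ f :=
    hγ.trans hf₀
  have hcomm : β.comp γ = α.comp φ := by
    refine hom_ext (X := S) (x := f.base x) (α.comp φ) (β.comp γ) ?_ fun r => ?_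
    · rw [hsq, CommRingCat.ofHom_comp, Spec.map_comp, Category.assoc, hγf, ← Category.assoc, hβ, Category.assoc]
    · show ResidueField.map β (residue RX (γ r)) = _
      rw [hγres]
      exact congr($hτ (residue RS r))
  -- the tensor product
  letI : Algebra RS RS' := φ.toAlgebra
  letI : Algebra RS RX := γ.toAlgebra
  letI : Algebra RS RX' := (α.comp φ).toAlgebra
  haveI : IsScalarTower RS RS' RX' := IsScalarTower.of_algebraMap_eq fun _ => rfl
  haveI : IsLocalHom (algebraMap RS RS') := hφl
  haveI : IsLocalHom (algebraMap RS RX) := hγl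
  haveI : Algebra.IsIntegral RS RS' := ⟨hg _ _ RS RS' φ hφ⟩
  haveI := Hens.isAlgebraic_residueField RS RS'
  let βA : RX →ₐ[RS] RX' := { β with commutes' := fun r => congr($hcomm r) }
  let Ψ : RS' ⊗[RS] RX →ₐ[RS'] RX' :=
    Algebra.TensorProduct.lift (Algebra.ofId RS' RX') βA fun _ _ => Commute.all _ _
  let iB : RS' →+* RS' ⊗[RS] RX := (Algebra.TensorProduct.includeLeft : RS' →ₐ[RS] RS' ⊗[RS] RX).toRingHom
  let iC : RX →+* RS' ⊗[RS] RX := (Algebra.TensorProduct.includeRight : RX →ₐ[RS] RS' ⊗[RS] RX).toRingHom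
  have hΨB : Ψ.toRingHom.comp iB = α := RingHom.ext fun b => by
    show Ψ (b ⊗ₜ[RS] (1 : RX)) = _
    rw [Algebra.TensorProduct.lift_tmul, map_one, mul_one]
    rfl
  have hΨC : Ψ.toRingHom.comp iC = β := RingHom.ext fun c => by
    show Ψ ((1 : RS') ⊗ₜ[RS] c) = _
    rw [Algebra.TensorProduct.lift_tmul, map_one, one_mul]
    rfl
  obtain ⟨hTloc, hiC, -⟩ := Hens.isLocalRing_tensor_of_purelyInseparable RS RS' RX
  haveI := hTloc
  haveI : IsLocalHom iC := hiC
  have hTint : iC.IsIntegral := Hens.isIntegral_includeRight RS RS' RX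
  obtain ⟨hTh, hTs⟩ : HenselianLocalRing (RS' ⊗[RS] RX) ∧ IsSepClosed (ResidueField (RS' ⊗[RS] RX)) := by
    letI : Algebra RX (RS' ⊗[RS] RX) := iC.toAlgebra
    haveI : IsLocalHom (algebraMap RX (RS' ⊗[RS] RX)) := hiC
    haveI : Algebra.IsIntegral RX (RS' ⊗[RS] RX) := ⟨hTint⟩
    haveI := Hens.isAlgebraic_residueField RX (RS' ⊗[RS] RX)
    exact ⟨Hens.henselianLocalRing_of_isIntegral RX _,
      Hens.isSepClosed_of_isAlgebraic (ResidueField RX) (ResidueField (RS' ⊗[RS] RX))⟩
  haveI := hTh
  haveI := hTs
  haveI hΨl : IsLocalHom Ψ.toRingHom := by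
    haveI : (maximalIdeal RX').comap Ψ.toRingHom |>.IsMaximal := by
      letI : Algebra RX (RS' ⊗[RS] RX) := iC.toAlgebra
      haveI : Algebra.IsIntegral RX (RS' ⊗[RS] RX) := ⟨hTint⟩
      refine Ideal.isMaximal_of_isIntegral_of_isMaximal_comap (R := RX) _ ?_
      rw [Ideal.comap_comap, show Ψ.toRingHom.comp (algebraMap RX (RS' ⊗[RS] RX)) = β from hΨC,
        IsLocalRing.maximalIdeal_comap β]
      exact IsLocalRing.maximalIdeal.isMaximal _
    exact ⟨fun z hz => by_contra fun hn => ((IsLocalRing.eq_maximalIdeal this).ge hn : Ψ z ∈ maximalIdeal RX') hz⟩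
  have e : iC.comp γ = iB.comp φ := RingHom.ext fun r => by
    show (1 : RS') ⊗ₜ[RS] algebraMap RS RX r = algebraMap RS RS' r ⊗ₜ[RS] (1 : RX)
    rw [Algebra.algebraMap_eq_smul_one, Algebra.algebraMap_eq_smul_one, TensorProduct.tmul_smul,
      TensorProduct.smul_tmul']
  have haw : (Spec.map (CommRingCat.ofHom iC) ≫ Hens2.specOf X x RX) ≫ f =
      (Spec.map (CommRingCat.ofHom iB) ≫ Hens2.specOf S' ((pullback.snd f g).base x') RS') ≫ g := by
    refine (Category.assoc _ (Hens2.specOf X x RX) f).trans (Eq.trans ?_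
      (Category.assoc _ (Hens2.specOf S' ((pullback.snd f g).base x') RS') g).symm)
    rw [← hγf, ← hφ, specOf_map, specOf_map, ← Spec.map_comp_assoc, ← Spec.map_comp_assoc,
      ← CommRingCat.ofHom_comp, ← CommRingCat.ofHom_comp, ← RingHom.comp_assoc, ← RingHom.comp_assoc, e]
  let aT : Spec (CommRingCat.of (RS' ⊗[RS] RX)) ⟶ pullback f g := pullback.lift _ _ haw
  have hΨa : Spec.map (CommRingCat.ofHom Ψ.toRingHom) ≫ aT = Hens2.specOf (pullback f g) x' RX' := by
    apply pullback.hom_ext
    · rw [Category.assoc, pullback.lift_fst, ← Category.assoc, ← Spec.map_comp, ← CommRingCat.ofHom_comp,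
        hΨC, hβ]
    · rw [Category.assoc, pullback.lift_snd, ← Category.assoc, ← Spec.map_comp, ← CommRingCat.ofHom_comp,
        hΨB, hα]
  have hcp : aT (closedPoint (RS' ⊗[RS] RX)) = x' := by
    rw [← map_closedPoint Ψ.toRingHom, ← Scheme.Hom.comp_apply, hΨa]
    exact specOf_closedPoint
  obtain ⟨fT, hfTl, hfT⟩ := exists_localHom aT hcp
  have hΨf : Ψ.toRingHom.comp fT = algebraMap ((pullback f g).presheaf.stalk x') RX' := by
    refine ringHom_ext_specOf ?_
    rw [CommRingCat.ofHom_comp, Spec.map_comp, Category.assoc, hfT, hΨa]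
  let σ : ResidueField (RS' ⊗[RS] RX) →+* ResidueField RX' := ResidueField.map Ψ.toRingHom
  have hσ : σ.comp (ResidueField.map fT) = algebraMap _ (ResidueField RX') := RingHom.ext fun y => by
    obtain ⟨a, rfl⟩ := residue_surjective y
    exact congrArg (residue RX') congr($hΨf a)
  haveI := hsepX'
  let σe := RingEquiv.ofBijective σ ⟨σ.injective, Hens.surjective_of_isSepClosed σ (ResidueField.map fT) hσ⟩
  obtain ⟨h, hhl, -, hh, hhres⟩ := exists_lift_residue (X := pullback f g) (x := x') (R := RX') fT
    σe.symm.toRingHom (RingHom.ext fun y => by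
      show σe.symm (algebraMap _ (ResidueField RX') y) = ResidueField.map fT y
      rw [← hσ]
      exact σe.symm_apply_apply _)
  have h1 : Ψ.toRingHom.comp h = RingHom.id RX' := by
    refine hom_ext (X := pullback f g) (x := x') (RingHom.id RX') _ ?_ fun r => ?_
    · rw [CommRingCat.ofHom_comp, Spec.map_comp, Category.assoc, hh, hfT, hΨa]
      simp
    · show σe (residue _ (h r)) = residue RX' r
      rw [hhres]
      exact σe.apply_symm_apply _
  have hres : ∀ z w : RS' ⊗[RS] RX, Ψ z = Ψ w → residue _ z = residue _ w := fun z w e =>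
    σ.injective (congrArg (residue RX') e : _)
  haveI : IsLocalHom iB := by
    haveI : IsLocalHom (Ψ.toRingHom.comp iB) := by rw [hΨB]; infer_instance
    exact isLocalHom_of_comp iB Ψ.toRingHom
  have hB : h.comp α = iB := by
    refine hom_ext (X := S') (x := (pullback.snd f g).base x') iB _ ?_ fun r => hres _ _ ?_
    · rw [CommRingCat.ofHom_comp, Spec.map_comp, Category.assoc, hα, ← Category.assoc, hh, hfT,
        pullback.lift_snd]
    · exact (congr($h1 (α r))).trans (congr($hΨB r)).symm
  have hC : h.comp β = iC := by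
    refine hom_ext (X := X) (x := x) iC _ ?_ fun r => hres _ _ ?_
    · rw [CommRingCat.ofHom_comp, Spec.map_comp, Category.assoc, hβ, ← Category.assoc, hh, hfT,
        pullback.lift_fst]
    · exact (congr($h1 (β r))).trans (congr($hΨC r)).symm
  have hbij : Function.Bijective Ψ := by
    refine Function.bijective_iff_has_inverse.2 ⟨h, fun z => ?_, fun z => congr($h1 z)⟩
    induction z with
    | zero => simp
    | add a b ha hb => rw [map_add, map_add, ha, hb]
    | tmul b c =>
      rw [show Ψ (b ⊗ₜ[RS] c) = α b * β c from Algebra.TensorProduct.lift_tmul .., map_mul,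
        show h (α b) = iB b from congr($hB b), show h (β c) = iC c from congr($hC c)]
      show (b ⊗ₜ[RS] (1 : RX)) * ((1 : RS') ⊗ₜ[RS] c) = _
      rw [Algebra.TensorProduct.tmul_mul_tmul, mul_one, one_mul]
  refine ⟨γ, φ, hγl, (specOf_compat f γ).2 hγf, fun Ω _ _ => ?_⟩
  letI : Algebra RS Ω := ((algebraMap RS' Ω).comp φ).toAlgebra
  haveI : IsScalarTower RS RS' Ω := IsScalarTower.of_algebraMap_eq fun _ => rfl
  exact tensor_ringEquiv Ψ hbij

end Groth.Agent.LocAcyc24
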