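import Groth.Agent.Lib.LocAcyc24.SHPoint
import Groth.Agent.Lib.Hens.TensorBijective
import Mathlib.AlgebraicGeometry.Morphisms.Integral
import Mathlib.AlgebraicGeometry.Morphisms.QuasiFinite
import Mathlib.AlgebraicGeometry.Morphisms.FiniteType

/-!
# Maps of strict localisations along integral and quasi-finite morphisms are integral
-/

set_option autoImplicit false
set_option linter.style.haveILetI false
set_option backward.isDefEq.respectTransparency.types false

universe u

open CategoryTheory AlgebraicGeometry IsLocalRing Opposite TopologicalSpace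

namespace Groth.Agent.LocAcyc24

/-- Strict henselizations transport along isomorphisms of the base ring. -/
theorem isStrictHenselization_of_ringEquiv {A B R : Type u} [CommRing A] [IsLocalRing A] [CommRing B]
    [IsLocalRing B] [CommRing R] [IsLocalRing R] [Algebra A R] [Algebra B R] [IsLocalHom (algebraMap A R)]
    [IsLocalHom (algebraMap B R)] (e : A ≃+* B) (he : ∀ a, algebraMap A R a = algebraMap B R (e a))
    [Hensel.IsStrictHenselization B R] : Hensel.IsStrictHenselization A R where
  henselian := Hensel.IsStrictHenselization.henselian (R := B)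
  isSepClosure := by
    haveI : IsLocalHom e.toRingHom := ⟨fun x hx => (isLocalHom_equiv e).map_nonunit x hx⟩
    let j : ResidueField A →+* ResidueField B := ResidueField.map e.toRingHom
    letI : Algebra (ResidueField A) (ResidueField B) := j.toAlgebra
    haveI : IsScalarTower (ResidueField A) (ResidueField B) (ResidueField R) :=
      IsScalarTower.of_algebraMap_eq fun x => by
        obtain ⟨a, rfl⟩ := residue_surjective x
        show residue R (algebraMap A R a) = residue R (algebraMap B R (e a))
        rw [he]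
    haveI : Algebra.IsSeparable (ResidueField A) (ResidueField B) := ⟨fun y => by
      obtain ⟨b, rfl⟩ := residue_surjective y
      have : residue B b = algebraMap (ResidueField A) (ResidueField B) (residue A (e.symm b)) := by
        show _ = residue B (e (e.symm b))
        rw [e.apply_symm_apply]
      rw [this]
      exact isSeparable_algebraMap _⟩
    have h := Hensel.IsStrictHenselization.isSepClosure (R := B) (S := R)
    haveI := h.2
    exact ⟨h.1, Algebra.IsSeparable.trans (ResidueField A) (ResidueField B) (ResidueField R)⟩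
  universal T _ _ f _ τ hτ := by
    haveI : IsLocalHom e.symm.toRingHom := ⟨fun x hx => (isLocalHom_equiv e.symm).map_nonunit x hx⟩
    haveI : IsLocalHom (f.comp e.symm.toRingHom) := RingHom.isLocalHom_comp _ _
    obtain ⟨g, ⟨hg, hgτ⟩, hu⟩ := Hensel.IsStrictHenselization.universal (R := B) (S := R) T
      (f.comp e.symm.toRingHom) τ (by
        refine RingHom.ext fun y => ?_
        obtain ⟨b, rfl⟩ := residue_surjective y
        have := congr($hτ (residue A (e.symm b)))
        show τ (residue R (algebraMap B R b)) = residue T (f (e.symm b))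
        rw [show algebraMap B R b = algebraMap A R (e.symm b) by rw [he, e.apply_symm_apply]]
        exact this)
    refine ⟨g, ⟨RingHom.ext fun a => ?_, hgτ⟩, fun g' hg' => hu g' ⟨RingHom.ext fun b => ?_, hg'.2⟩⟩
    · rw [RingHom.comp_apply, he]
      exact (congr($hg (e a))).trans (congrArg f (e.symm_apply_apply a))
    · rw [RingHom.comp_apply, ← e.apply_symm_apply b, ← he]
      exact (congr($(hg'.1) (e.symm b))).trans (by simp)

variable {S S' : Scheme.{u}} (g : S' ⟶ S) {s' : S'}
  {RS : Type u} [CommRing RS] [IsLocalRing RS] [Algebra (S.presheaf.stalk (g s')) RS]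
  [IsLocalHom (algebraMap (S.presheaf.stalk (g s')) RS)]
  [Hensel.IsStrictHenselization (S.presheaf.stalk (g s')) RS]
  {RS' : Type u} [CommRing RS'] [IsLocalRing RS'] [Algebra (S'.presheaf.stalk s') RS']
  [IsLocalHom (algebraMap (S'.presheaf.stalk s') RS')]
  [Hensel.IsStrictHenselization (S'.presheaf.stalk s') RS']

theorem isIntegral_of_affine (φ : RS →+* RS')
    (hφ : φ.comp (algebraMap (S.presheaf.stalk (g s')) RS) =
      (algebraMap (S'.presheaf.stalk s') RS').comp (g.stalkMap s').hom)
    (U : S.Opens) (hU : IsAffineOpen U) (U' : S'.Opens) (hU' : IsAffineOpen U') (e : U' ≤ g ⁻¹ᵁ U)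
    (hs : s' ∈ U')
    (hg : (g.appLE U U' e).hom.IsIntegral ∨
      ((g.appLE U U' e).hom.FiniteType ∧ (g.appLE U U' e).hom.QuasiFinite)) : φ.IsIntegral := by
  classical
  letI algAB : Algebra Γ(S, U) Γ(S', U') := (g.appLE U U' e).hom.toAlgebra
  letI algA : Algebra Γ(S, U) (S.presheaf.stalk (g s')) := S.presheaf.algebra_section_stalk (⟨g s', e hs⟩ : U)
  letI algB : Algebra Γ(S', U') (S'.presheaf.stalk s') := S'.presheaf.algebra_section_stalk (⟨s', hs⟩ : U')
  let p := (hU.primeIdealOf ⟨g s', e hs⟩).asIdeal
  let q := (hU'.primeIdealOf ⟨s', hs⟩).asIdeal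
  haveI : IsLocalization.AtPrime (S.presheaf.stalk (g s')) p := hU.isLocalization_stalk ⟨g s', e hs⟩
  haveI : IsLocalization.AtPrime (S'.presheaf.stalk s') q := hU'.isLocalization_stalk ⟨s', hs⟩
  let εA : Localization.AtPrime p ≃ₐ[Γ(S, U)] S.presheaf.stalk (g s') :=
    IsLocalization.algEquiv p.primeCompl _ _
  let εB : Localization.AtPrime q ≃ₐ[Γ(S', U')] S'.presheaf.stalk s' :=
    IsLocalization.algEquiv q.primeCompl _ _
  letI algpR : Algebra (Localization.AtPrime p) RS :=
    ((algebraMap (S.presheaf.stalk (g s')) RS).comp εA.toRingEquiv.toRingHom).toAlgebra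
  letI algqR : Algebra (Localization.AtPrime q) RS' :=
    ((algebraMap (S'.presheaf.stalk s') RS').comp εB.toRingEquiv.toRingHom).toAlgebra
  haveI : IsLocalHom εA.toRingEquiv.toRingHom := ⟨fun x hx => (isLocalHom_equiv εA.toRingEquiv).map_nonunit x hx⟩
  haveI : IsLocalHom εB.toRingEquiv.toRingHom := ⟨fun x hx => (isLocalHom_equiv εB.toRingEquiv).map_nonunit x hx⟩
  haveI : IsLocalHom (algebraMap (Localization.AtPrime p) RS) := RingHom.isLocalHom_comp _ _
  haveI : IsLocalHom (algebraMap (Localization.AtPrime q) RS') := RingHom.isLocalHom_comp _ _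
  haveI : Hensel.IsStrictHenselization (Localization.AtPrime p) RS :=
    isStrictHenselization_of_ringEquiv εA.toRingEquiv fun _ => rfl
  haveI : Hensel.IsStrictHenselization (Localization.AtPrime q) RS' :=
    isStrictHenselization_of_ringEquiv εB.toRingEquiv fun _ => rfl
  letI algAR : Algebra Γ(S, U) RS := ((algebraMap (S.presheaf.stalk (g s')) RS).comp (algebraMap Γ(S, U) _)).toAlgebra
  letI algBR : Algebra Γ(S', U') RS' := ((algebraMap (S'.presheaf.stalk s') RS').comp (algebraMap Γ(S', U') _)).toAlgebra
  haveI : IsScalarTower Γ(S, U) (Localization.AtPrime p) RS := IsScalarTower.of_algebraMap_eq fun a => by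
    show algebraMap (S.presheaf.stalk (g s')) RS _ = algebraMap (S.presheaf.stalk (g s')) RS (εA _)
    rw [εA.commutes]
  haveI : IsScalarTower Γ(S', U') (Localization.AtPrime q) RS' := IsScalarTower.of_algebraMap_eq fun a => by
    show algebraMap (S'.presheaf.stalk s') RS' _ = algebraMap (S'.presheaf.stalk s') RS' (εB _)
    rw [εB.commutes]
  letI algAR' : Algebra Γ(S, U) RS' := ((algebraMap Γ(S', U') RS').comp (algebraMap Γ(S, U) Γ(S', U'))).toAlgebra
  haveI : IsScalarTower Γ(S, U) Γ(S', U') RS' := IsScalarTower.of_algebraMap_eq fun _ => rfl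
  letI algφ : Algebra RS RS' := φ.toAlgebra
  have hgerm : S.presheaf.germ U (g s') (e hs) ≫ g.stalkMap s' =
      g.appLE U U' e ≫ S'.presheaf.germ U' s' hs := by
    rw [Scheme.Hom.germ_stalkMap, Scheme.Hom.appLE, Category.assoc, TopCat.Presheaf.germ_res]
  haveI : IsScalarTower Γ(S, U) RS RS' := IsScalarTower.of_algebraMap_eq fun a => by
    refine Eq.symm ((congr($hφ (algebraMap Γ(S, U) (S.presheaf.stalk (g s')) a))).trans ?_)
    exact congrArg (algebraMap (S'.presheaf.stalk s') RS') (congr(($hgerm).hom a))
  haveI : q.LiesOver p := ⟨by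
    rw [← IsLocalization.AtPrime.comap_maximalIdeal (S'.presheaf.stalk s') q,
      ← IsLocalization.AtPrime.comap_maximalIdeal (S.presheaf.stalk (g s')) p]
    simp only [Ideal.under, Ideal.comap_comap]
    have hm : (maximalIdeal (S'.presheaf.stalk s')).comap (g.stalkMap s').hom =
        maximalIdeal (S.presheaf.stalk (g s')) :=
      IsLocalRing.maximalIdeal_comap (g.stalkMap s').hom
    rw [← hm, Ideal.comap_comap]
    congr 1
    exact congrArg CommRingCat.Hom.hom hgerm⟩
  suffices h : Algebra.IsIntegral RS RS' from fun z => h.isIntegral z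
  rcases hg with hi | ⟨hft, hqf⟩
  · haveI : Algebra.IsIntegral Γ(S, U) Γ(S', U') := ⟨fun z => hi z⟩
    exact Hens.isIntegral_strictHenselization_of_isIntegral Γ(S, U) Γ(S', U') p q RS RS'
  · haveI : Algebra.FiniteType Γ(S, U) Γ(S', U') := hft
    haveI : Algebra.QuasiFinite Γ(S, U) Γ(S', U') := hqf
    refine Hens.isIntegral_strictHenselization_of_indQuasiFinite Γ(S, U) Γ(S', U') p q RS RS' fun s => ?_
    refine ⟨⊤, fun x _ => Algebra.mem_top, ?_, ?_⟩
    · exact Algebra.FiniteType.equiv ‹_› Subalgebra.topEquiv.symm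
    · exact Algebra.QuasiFinite.of_surjective_algHom Subalgebra.topEquiv.symm.toAlgHom
        Subalgebra.topEquiv.symm.surjective

/-- Maps of strict localisations along an integral morphism are integral. -/
theorem isIntegral_of_isIntegralHom [IsIntegralHom g] (φ : RS →+* RS')
    (hφ : φ.comp (algebraMap (S.presheaf.stalk (g s')) RS) =
      (algebraMap (S'.presheaf.stalk s') RS').comp (g.stalkMap s').hom) : φ.IsIntegral := by
  obtain ⟨_, ⟨U, hU, rfl⟩, hs, -⟩ := S.isBasis_affineOpens.exists_subset_of_mem_open
    (Set.mem_univ (g s')) isOpen_univ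
  refine isIntegral_of_affine g φ hφ U hU (g ⁻¹ᵁ U) (hU.preimage g) le_rfl hs (Or.inl ?_)
  rw [Scheme.Hom.appLE_eq_app]
  exact g.isIntegral_app U hU

/-- Maps of strict localisations along a quasi-finite morphism are integral. -/
theorem isIntegral_of_quasiFinite [LocallyOfFiniteType g] [LocallyQuasiFinite g] (φ : RS →+* RS')
    (hφ : φ.comp (algebraMap (S.presheaf.stalk (g s')) RS) =
      (algebraMap (S'.presheaf.stalk s') RS').comp (g.stalkMap s').hom) : φ.IsIntegral := by
  obtain ⟨_, ⟨U, hU, rfl⟩, hs, -⟩ := S.isBasis_affineOpens.exists_subset_of_mem_open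
    (Set.mem_univ (g s')) isOpen_univ
  obtain ⟨_, ⟨U', hU', rfl⟩, hs', hle⟩ := S'.isBasis_affineOpens.exists_subset_of_mem_open
    (show s' ∈ g ⁻¹ᵁ U from hs) (g ⁻¹ᵁ U).2
  exact isIntegral_of_affine g φ hφ U hU U' hU' hle hs' (Or.inr
    ⟨g.finiteType_appLE hU hU' hle, LocallyQuasiFinite.quasiFinite_appLE hU hU' hle⟩)

end Groth.Agent.LocAcyc24
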